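import Cfsg.Agent.H115.OfRGD
import Cfsg.Agent.H554.RG
import Cfsg.Agent.H497.Gow.Unip

/-!
# Indices of parabolic subgroups (helper497, task 1838 for S4898)

* `index_B_mul_le` : the conjugates of the set of regular unipotent elements are disjoint;
* `prod_le_relIndex`, `prod_le_relIndex_edge` : chains of parabolic subgroups;
* `rank_two_index` : rank two.
-/

set_option autoImplicit false
set_option linter.unusedSectionVars false

namespace Cfsg.Agent.H497.CD

open CoxeterSystem Cfsg.Agent.ChevalleyStructure.CoxeterGeom Cfsg.Agent.Tits.Roots Cfsg.Agent.Tits.Core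
  Cfsg.Agent.Tits.Exchange Cfsg.Agent.Nodes.Reps Cfsg.Agent.Nodes.BNOf Cfsg.Agent.Nodes.StabComb
  Cfsg.Agent.Nodes.Bruhat Cfsg.Agent.Nodes.OppDec Cfsg.Agent.Nodes.LeviDec Cfsg.Agent.H497.Gow
open Cfsg.Agent.H554.RG (n_mem_PJ_iff PJ_mono PJ_univ relIndex_B_PJ_singleton)

variable {I W Y : Type*} [Fintype I] [DecidableEq I] [Group W] [Group Y] {M : CoxeterMatrix I}
  {cs : CoxeterSystem M W} {A : I → I → ℤ} {h : IsCartan M A} {p : ℕ} {T : Subgroup Y} {n : I → Y}
  {X : (I → ℤ) → Subgroup Y}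

/-! ### parabolic subgroups -/

theorem PJ_empty [Finite W] (R : RGD cs h p T n X) : PJ cs h T X ∅ = RGD.B cs h T X := by
  apply le_antisymm
  · intro g hg
    obtain ⟨w, hw, hc⟩ := (mem_PJ_iff_cell R).1 hg
    have h1 : w = 1 := by
      unfold WJ at hw
      rw [Set.image_empty, Subgroup.closure_empty, Subgroup.mem_bot] at hw
      exact hw
    subst h1
    exact hc.mem_of_one
  · exact B_le_PJ

/-- an element `n_j⁻¹ u n_j`, `u ∈ X_j`, of `P_J`, `j ∉ J`, is trivial -/
theorem eq_one_of_conj_mem_PJ [Finite W] (R : RGD cs h p T n X) {J : Set I} {j : I} (hj : j ∉ J) {u : Y}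
    (hu : u ∈ X (sr j)) (hP : (n j)⁻¹ * u * n j ∈ PJ cs h T X J) : u = 1 := by
  have h1 : (n j)⁻¹ * u * n j ∈ X (-sr j) := by
    have := R.conj_mem' (rp_simple cs R.nsys j) (isRoot_sr cs h j) hu
    rwa [inv_simple, rep_simple_sr] at this
  have h2 : (n j)⁻¹ * u * n j ∈ VNJ cs h X J := by
    refine RGD.le_Sup (S := NotNJ cs h J) (z := -sr j) ?_ h1
    change -(-sr j) ∈ NotJ cs h J
    rw [neg_neg]
    exact sr_mem_NotJ hj
  have h3 := eq_one_of_mem_VNJ_of_mem_PJ R h2 hP
  have h4 : u = n j * ((n j)⁻¹ * u * n j) * (n j)⁻¹ := by group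
  rw [h4, h3]; group

theorem step [Finite W] [Finite Y] (R : RGD cs h p T n X) {J : Set I} {j : I} (hj : j ∉ J) :
    1 + Nat.card (X (sr j)) ≤ (PJ cs h T X J).relIndex (PJ cs h T X (insert j J)) := by
  have hn : n j ∈ PJ cs h T X (insert j J) := (n_mem_PJ_iff R).mpr (Set.mem_insert j J)
  have hX : ∀ u ∈ X (sr j), u ∈ PJ cs h T X (insert j J) := fun u hu =>
    B_le_PJ (RGD.X_le_B (isRoot_sr cs h j) (sr_nonneg j) hu)
  have hXJ : ∀ u ∈ X (sr j), u ∈ PJ cs h T X J := fun u hu =>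
    B_le_PJ (RGD.X_le_B (isRoot_sr cs h j) (sr_nonneg j) hu)
  let f : Option (X (sr j)) → PJ cs h T X (insert j J) ⧸ (PJ cs h T X J).subgroupOf (PJ cs h T X (insert j J)) :=
    fun o => match o with
    | none => QuotientGroup.mk 1
    | some u => QuotientGroup.mk ⟨(u : Y) * n j, mul_mem (hX u u.2) hn⟩
  have hnB : n j ∉ PJ cs h T X J := fun hB => hj ((n_mem_PJ_iff R).1 hB)
  have hnB' : ∀ u ∈ X (sr j), u * n j ∉ PJ cs h T X J := by
    intro u hu hB
    exact hnB ((mul_mem_cancel_left (hXJ u hu)).1 hB)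
  have hinj : Function.Injective f := by
    rintro (_ | u) (_ | v) huv
    · rfl
    · exfalso
      have h1 := QuotientGroup.eq.mp huv
      rw [Subgroup.mem_subgroupOf] at h1
      apply hnB' v v.2
      simpa using h1
    · exfalso
      have h1 := QuotientGroup.eq.mp huv.symm
      rw [Subgroup.mem_subgroupOf] at h1
      apply hnB' u u.2
      simpa using h1
    · have h1 := QuotientGroup.eq.mp huv
      rw [Subgroup.mem_subgroupOf] at h1
      have h2 : (n j)⁻¹ * ((u : Y)⁻¹ * v) * n j ∈ PJ cs h T X J := by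
        have e : (n j)⁻¹ * ((u : Y)⁻¹ * v) * n j = ((u : Y) * n j)⁻¹ * ((v : Y) * n j) := by group
        rw [e]
        exact h1
      have h4 := eq_one_of_conj_mem_PJ R hj (mul_mem (inv_mem u.2) v.2) h2
      have h5 : (u : Y) = v := by
        rw [inv_mul_eq_one] at h4
        exact h4
      rw [Subtype.ext h5]
  have h1 := Nat.card_le_card_of_injective f hinj
  rw [Finite.card_option, add_comm] at h1
  exact h1

theorem relIndex_ne_zero' {G : Type*} [Group G] [Finite G] (H K : Subgroup G) : H.relIndex K ≠ 0 :=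
  Subgroup.index_ne_zero_of_finite

/-- adding nodes -/
theorem prod_le_aux [Finite W] [Finite Y] (R : RGD cs h p T n X) (J₀ J : Finset I) (hd : Disjoint J₀ J) {c : ℕ}
    (hc : c ≤ (RGD.B cs h T X).relIndex (PJ cs h T X (J₀ : Set I))) :
    c * ∏ i ∈ J, (1 + Nat.card (X (sr i))) ≤ (RGD.B cs h T X).relIndex (PJ cs h T X ((J₀ ∪ J : Finset I) : Set I)) := by
  induction J using Finset.induction_on with
  | empty => simpa using hc
  | insert j J hj ih =>
    rw [Finset.disjoint_insert_right] at hd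
    have h1 := ih hd.2
    have hj' : j ∉ ((J₀ ∪ J : Finset I) : Set I) := by
      rw [Finset.mem_coe, Finset.mem_union]
      exact fun h2 => h2.elim hd.1 hj
    have h2 := step R hj'
    have e : ((J₀ ∪ insert j J : Finset I) : Set I) = insert j ((J₀ ∪ J : Finset I) : Set I) := by
      rw [Finset.union_insert, Finset.coe_insert]
    rw [Finset.prod_insert hj, e, ← Subgroup.relIndex_mul_relIndex _ _ _ B_le_PJ (PJ_mono R (Set.subset_insert _ _))]
    calc c * ((1 + Nat.card (X (sr j))) * ∏ i ∈ J, (1 + Nat.card (X (sr i)))) =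
        (c * ∏ i ∈ J, (1 + Nat.card (X (sr i)))) * (1 + Nat.card (X (sr j))) := by ring
      _ ≤ _ := Nat.mul_le_mul h1 h2

theorem prod_le_relIndex [Finite W] [Finite Y] (R : RGD cs h p T n X) (J : Finset I) :
    ∏ i ∈ J, (1 + Nat.card (X (sr i))) ≤ (RGD.B cs h T X).relIndex (PJ cs h T X (J : Set I)) := by
  have h1 := prod_le_aux R ∅ J (Finset.disjoint_empty_left J) (c := 1) (by
    rw [Nat.one_le_iff_ne_zero]
    exact relIndex_ne_zero' _ _)
  rwa [one_mul, Finset.empty_union] at h1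

/-! ### two joined nodes -/

/-- the lengths -/
theorem length_two (h : IsCartan M A) {i j : I} (hij : i ≠ j) : cs.length (cs.simple j * cs.simple i) = 2 := by
  have h1 : cs.length (cs.simple j) < cs.length (cs.simple j * cs.simple i) := by
    rw [lt_iff' cs h]
    exact (isRoot_sr cs h i).simple_nonneg (sr_nonneg i) j (fun he => by
      have h2 := congrFun he i
      rw [sr_self, sr_ne hij] at h2
      exact absurd h2 (by decide))
  have h2 := cs.length_mul_simple (cs.simple j) i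
  rw [cs.length_simple] at h1 h2
  omega

theorem pairing_sr' (i j : I) : pairing A i (sr j) = A i j := by
  rw [sr, pairing_single, mul_one]

theorem rep_two {i j : I} : rep cs h (cs.simple j * cs.simple i) (sr j) =
    (A i j * A j i - 1) • sr j - A i j • sr i := by
  rw [rep_mul_apply, rep_simple_eq cs h i, pairing_sr', map_sub, map_smul, rep_simple_sr, rep_simple_eq cs h j,
    pairing_sr', smul_sub, smul_smul, sub_smul, one_smul]
  abel

theorem entries (h : IsCartan M A) {i j : I} (hij : i ≠ j) (hM : M i j ≠ 2) : 1 ≤ A i j * A j i ∧ A i j ≤ 0 := by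
  rcases h.rel i j hij with ⟨h1, -⟩ | ⟨-, h1, h2⟩ | ⟨-, ⟨h1, h2⟩ | ⟨h1, h2⟩⟩ | ⟨-, ⟨h1, h2⟩ | ⟨h1, h2⟩⟩
  · exact absurd h1 hM
  all_goals rw [h1, h2]; norm_num

theorem length_three (h : IsCartan M A) {i j : I} (hij : i ≠ j) (hM : M i j ≠ 2) :
    cs.length (cs.simple j * cs.simple i * cs.simple j) = 3 := by
  obtain ⟨e1, e2⟩ := entries h hij hM
  have h1 : cs.length (cs.simple j * cs.simple i) < cs.length (cs.simple j * cs.simple i * cs.simple j) := by
    rw [lt_iff' cs h, show (Pi.single j 1 : I → ℤ) = sr j from rfl, rep_two]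
    intro k
    have h2 : 0 ≤ (sr j : I → ℤ) k := sr_nonneg j k
    have h3 : 0 ≤ (sr i : I → ℤ) k := sr_nonneg i k
    have h4 : 0 ≤ (A i j * A j i - 1) * (sr j : I → ℤ) k := mul_nonneg (by omega) h2
    have h5 : A i j * (sr i : I → ℤ) k ≤ 0 := mul_nonpos_of_nonpos_of_nonneg e2 h3
    have h6 : 0 ≤ (A i j * A j i - 1) * (sr j : I → ℤ) k - A i j * (sr i : I → ℤ) k := by omega
    exact h6
  have h2 := cs.length_mul_simple (cs.simple j * cs.simple i) j
  rw [length_two h hij] at h1 h2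
  omega

/-- `n_j⁻¹ x n_j ∉ P_i` for `x` over `s_i` -/
theorem cell_not_mem [Finite W] (R : RGD cs h p T n X) {i j : I} (hij : i ≠ j) (hM : M i j ≠ 2) {x : Y}
    (hx : Cell R.nsys cs h X (cs.simple i) x) : (n j)⁻¹ * x * n j ∉ PJ cs h T X {i} := by
  have hj : Cell R.nsys cs h X (cs.simple j) (n j)⁻¹ := by
    have := (cell_of_rp (X := X) (h := h) (rp_simple cs R.nsys j)).inv
    rwa [inv_simple] at this
  have h1 := Cell.mul_of_length R (by rw [length_two h hij, cs.length_simple, cs.length_simple]) hj hx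
  have h2 := Cell.mul_of_length R (by rw [length_three h hij hM, length_two h hij, cs.length_simple]) h1
    (cell_of_rp (X := X) (h := h) (rp_simple cs R.nsys j))
  rw [cell_mem_PJ_iff R h2]
  intro h3
  have h4 := Cfsg.Agent.Tits.RootComb.rep_apply_of_mem cs h h3 (sr j) (k := j) (fun h5 => hij (Set.mem_singleton_iff.1 h5).symm)
  rw [rep_mul_apply, rep_simple_sr, map_neg, rep_two] at h4
  obtain ⟨e1, e2⟩ := entries h hij hM
  rw [Pi.neg_apply, Pi.sub_apply, Pi.smul_apply, Pi.smul_apply, sr_self, sr_ne hij.symm] at h4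
  simp only [smul_eq_mul, mul_one, mul_zero, sub_zero] at h4
  omega

/-- an element of `X_{-i}`, not trivial, is over `s_i` -/
theorem cell_of_neg [Finite W] (R : RGD cs h p T n X) {i : I} {v : Y} (hv : v ∈ X (sr i)) (hv1 : v ≠ 1) :
    Cell R.nsys cs h X (cs.simple i) ((n i)⁻¹ * v * n i) := by
  have h1 : (n i)⁻¹ * v * n i ∈ X (-sr i) := by
    have := R.conj_mem' (rp_simple cs R.nsys i) (isRoot_sr cs h i) hv
    rwa [inv_simple, rep_simple_sr] at this
  have h2 : (n i)⁻¹ * v * n i ≠ 1 := by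
    intro h3
    apply hv1
    have h4 : v = n i * ((n i)⁻¹ * v * n i) * (n i)⁻¹ := by group
    rw [h4, h3]; group
  obtain ⟨a, ha, t, ht, b, hb, e⟩ := R.rk1 i _ h1 h2
  have hX : ∀ c ∈ X (sr i), c ∈ RGD.B cs h T X := fun c hc => RGD.X_le_B (isRoot_sr cs h i) (sr_nonneg i) hc
  exact ⟨a * t, mul_mem (hX a ha) (RGD.T_le_B ht), n i, rp_simple cs R.nsys i, b, hX b hb, e⟩

theorem step_two [Finite W] [Finite Y] (R : RGD cs h p T n X) {i j : I} (hij : i ≠ j) (hM : M i j ≠ 2) :
    1 + Nat.card (X (sr j)) + Nat.card (X (sr i)) * Nat.card (X (sr j)) ≤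
      (PJ cs h T X {i}).relIndex (PJ cs h T X {i, j}) := by
  have hnj : n j ∈ PJ cs h T X {i, j} := (n_mem_PJ_iff R).mpr (by simp)
  have hni : n i ∈ PJ cs h T X {i, j} := (n_mem_PJ_iff R).mpr (by simp)
  have hni' : n i ∈ PJ cs h T X {i} := (n_mem_PJ_iff R).mpr rfl
  have hX : ∀ (k : I) (J : Set I), ∀ u ∈ X (sr k), u ∈ PJ cs h T X J := fun k J u hu =>
    B_le_PJ (RGD.X_le_B (isRoot_sr cs h k) (sr_nonneg k) hu)
  have hXB : ∀ (k : I), ∀ u ∈ X (sr k), u ∈ RGD.B cs h T X := fun k u hu =>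
    RGD.X_le_B (isRoot_sr cs h k) (sr_nonneg k) hu
  let f : Option (X (sr j)) ⊕ (X (sr i) × X (sr j)) →
      PJ cs h T X {i, j} ⧸ (PJ cs h T X {i}).subgroupOf (PJ cs h T X {i, j}) :=
    fun o => match o with
    | Sum.inl none => QuotientGroup.mk 1
    | Sum.inl (some u) => QuotientGroup.mk ⟨(u : Y) * n j, mul_mem (hX j _ u u.2) hnj⟩
    | Sum.inr (v, u) => QuotientGroup.mk ⟨(v : Y) * n i * (u * n j),
        mul_mem (mul_mem (hX i _ v v.2) hni) (mul_mem (hX j _ u u.2) hnj)⟩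
  have hji : j ∉ ({i} : Set I) := fun h5 => hij (Set.mem_singleton_iff.1 h5).symm
  have hnB : n j ∉ PJ cs h T X {i} := fun hB => hji ((n_mem_PJ_iff R).1 hB)
  have hnB' : ∀ u ∈ X (sr j), u * n j ∉ PJ cs h T X {i} := by
    intro u hu hB
    exact hnB ((mul_mem_cancel_left (hX j _ u hu)).1 hB)
  have hnB2 : ∀ v ∈ X (sr i), ∀ u ∈ X (sr j), v * n i * (u * n j) ∉ PJ cs h T X {i} := by
    intro v hv u hu hB
    exact hnB' u hu ((mul_mem_cancel_left (mul_mem (hX i _ v hv) hni')).1 hB)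
  have h01 : ∀ u ∈ X (sr j), ∀ v ∈ X (sr i), ∀ u' ∈ X (sr j),
      ((u : Y) * n j)⁻¹ * (v * n i * (u' * n j)) ∉ PJ cs h T X {i} := by
    intro u hu v hv u' hu' hB
    have hc : Cell R.nsys cs h X (cs.simple i) (u⁻¹ * v * n i * u') :=
      ((cell_of_rp (X := X) (h := h) (rp_simple cs R.nsys i)).mul_left
        (mul_mem (inv_mem (hXB j u hu)) (hXB i v hv))).mul_right (hXB j u' hu')
    apply cell_not_mem R hij hM hc
    have e : (n j)⁻¹ * (u⁻¹ * v * n i * u') * n j = ((u : Y) * n j)⁻¹ * (v * n i * (u' * n j)) := by group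
    rw [e]
    exact hB
  have hinj : Function.Injective f := by
    rintro ((_ | u) | ⟨v, u⟩) ((_ | u') | ⟨v', u'⟩) huv
    · rfl
    · exfalso
      have h1 := QuotientGroup.eq.mp huv
      rw [Subgroup.mem_subgroupOf] at h1
      apply hnB' u' u'.2
      simpa using h1
    · exfalso
      have h1 := QuotientGroup.eq.mp huv
      rw [Subgroup.mem_subgroupOf] at h1
      apply hnB2 v' v'.2 u' u'.2
      simpa using h1
    · exfalso
      have h1 := QuotientGroup.eq.mp huv.symm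
      rw [Subgroup.mem_subgroupOf] at h1
      apply hnB' u u.2
      simpa using h1
    · have h1 := QuotientGroup.eq.mp huv
      rw [Subgroup.mem_subgroupOf] at h1
      have h2 : (n j)⁻¹ * ((u : Y)⁻¹ * u') * n j ∈ PJ cs h T X {i} := by
        have e : (n j)⁻¹ * ((u : Y)⁻¹ * u') * n j = ((u : Y) * n j)⁻¹ * ((u' : Y) * n j) := by group
        rw [e]
        exact h1
      have h4 := eq_one_of_conj_mem_PJ R hji (mul_mem (inv_mem u.2) u'.2) h2
      have h5 : (u : Y) = u' := by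
        rw [inv_mul_eq_one] at h4
        exact h4
      rw [Subtype.ext h5]
    · exfalso
      have h1 := QuotientGroup.eq.mp huv
      rw [Subgroup.mem_subgroupOf] at h1
      exact h01 u u.2 v' v'.2 u' u'.2 h1
    · exfalso
      have h1 := QuotientGroup.eq.mp huv.symm
      rw [Subgroup.mem_subgroupOf] at h1
      apply hnB2 v v.2 u u.2
      simpa using h1
    · exfalso
      have h1 := QuotientGroup.eq.mp huv.symm
      rw [Subgroup.mem_subgroupOf] at h1
      exact h01 u' u'.2 v v.2 u u.2 h1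
    · have h1 := QuotientGroup.eq.mp huv
      rw [Subgroup.mem_subgroupOf] at h1
      have h2 : ((v : Y) * n i * (u * n j))⁻¹ * ((v' : Y) * n i * (u' * n j)) ∈ PJ cs h T X {i} := h1
      have hvv : (v : Y) = v' := by
        by_contra hne
        have h3 : (v : Y)⁻¹ * v' ≠ 1 := fun h4 => hne (inv_mul_eq_one.1 h4)
        have hc := cell_of_neg R (mul_mem (inv_mem v.2) v'.2) h3
        have hc' : Cell R.nsys cs h X (cs.simple i) ((u : Y)⁻¹ * ((n i)⁻¹ * ((v : Y)⁻¹ * v') * n i) * u') :=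
          (hc.mul_left (inv_mem (hXB j u u.2))).mul_right (hXB j u' u'.2)
        apply cell_not_mem R hij hM hc'
        have e : (n j)⁻¹ * ((u : Y)⁻¹ * ((n i)⁻¹ * ((v : Y)⁻¹ * v') * n i) * u') * n j =
            ((v : Y) * n i * (u * n j))⁻¹ * ((v' : Y) * n i * (u' * n j)) := by group
        rw [e]
        exact h2
      have h3 : (n j)⁻¹ * ((u : Y)⁻¹ * u') * n j ∈ PJ cs h T X {i} := by
        have e : (n j)⁻¹ * ((u : Y)⁻¹ * u') * n j =
            ((v : Y) * n i * (u * n j))⁻¹ * ((v' : Y) * n i * (u' * n j)) := by rw [hvv]; group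
        rw [e]
        exact h2
      have h4 := eq_one_of_conj_mem_PJ R hji (mul_mem (inv_mem u.2) u'.2) h3
      have h5 : (u : Y) = u' := by
        rw [inv_mul_eq_one] at h4
        exact h4
      rw [Subtype.ext h5, Subtype.ext hvv]
  have h1 := Nat.card_le_card_of_injective f hinj
  rw [Nat.card_sum, Nat.card_prod, Finite.card_option] at h1
  rw [add_comm 1]
  exact h1

theorem prod_le_relIndex_edge [Finite W] [Finite Y] (R : RGD cs h p T n X) (J : Finset I) {i j : I} (hi : i ∈ J)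
    (hj : j ∈ J) (hij : i ≠ j) (hM : M i j ≠ 2) :
    (1 + Nat.card (X (sr i))) * (1 + Nat.card (X (sr j)) + Nat.card (X (sr i)) * Nat.card (X (sr j))) *
      ∏ k ∈ J \ {i, j}, (1 + Nat.card (X (sr k))) ≤ (RGD.B cs h T X).relIndex (PJ cs h T X (J : Set I)) := by
  have h1 := prod_le_aux R {i, j} (J \ {i, j}) Finset.disjoint_sdiff (c := (1 + Nat.card (X (sr i))) *
    (1 + Nat.card (X (sr j)) + Nat.card (X (sr i)) * Nat.card (X (sr j)))) (by
      rw [Finset.coe_pair, ← Subgroup.relIndex_mul_relIndex _ (PJ cs h T X {i}) _ B_le_PJ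
        (PJ_mono R (by simp)), relIndex_B_PJ_singleton R i, add_comm (Nat.card (X (sr i)))]
      exact Nat.mul_le_mul le_rfl (step_two R hij hM))
  have h2 : {i, j} ∪ (J \ {i, j}) = J := by
    apply Finset.union_sdiff_of_subset
    intro k hk
    rcases Finset.mem_insert.1 hk with rfl | hk
    · exact hi
    · rw [Finset.mem_singleton.1 hk]; exact hj
  rwa [h2] at h1

/-! ### rank two -/

theorem rank_two_index {W Y : Type*} [Group W] [Group Y] {M : CoxeterMatrix (Fin 2)} {cs : CoxeterSystem M W}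
    {A : Fin 2 → Fin 2 → ℤ} {h : IsCartan M A} {p : ℕ} {T : Subgroup Y} {n : Fin 2 → Y}
    {X : (Fin 2 → ℤ) → Subgroup Y} [Finite W] [Finite Y] [Fact p.Prime] (R : RGD cs h p T n X)
    (hG : GG cs h T X = ⊤) :
    (PJ cs h T X {0}).index * (Nat.card (X (sr 0)) * Nat.card (X (sr 1)) - 1) =
      (Nat.card (RGD.Sup X (RGD.Pos cs h)) - 1) * (1 + Nat.card (X (sr 1))) := by
  have h1 := (Cfsg.Agent.H115.splitBru_of_rgd R hG).sum_index Finset.univ
    (Cfsg.Agent.H115.exists_longest (cs := cs) Finset.univ)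
  have hps : (Finset.univ : Finset (Fin 2)).powerset = {∅, {0}, {1}, {0, 1}} := by decide
  have hV : VJ cs h X ((Finset.univ : Finset (Fin 2)) : Set (Fin 2)) = ⊥ := by
    rw [eq_bot_iff]
    refine RGD.Sup_le ?_
    rintro x ⟨-, -, k, hk, -⟩
    exact absurd (by simp) hk
  have hU : ((Finset.univ : Finset (Fin 2)) : Set (Fin 2)) = Set.univ := Finset.coe_univ
  rw [hps, Finset.sum_insert (by decide), Finset.sum_insert (by decide), Finset.sum_insert (by decide),
    Finset.sum_singleton, hV, Subgroup.relIndex_bot_left, hU, PJ_univ R hG] at h1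
  have h01 : (({0, 1} : Finset (Fin 2)) : Set (Fin 2)) = Set.univ := by
    rw [← hU]; congr 1
  rw [h01, PJ_univ R hG, Subgroup.relIndex_self] at h1
  simp only [Finset.coe_empty, Finset.coe_singleton, Subgroup.relIndex_top_right, Finset.card_empty,
    Finset.card_singleton, PJ_empty R] at h1
  have h2 : (RGD.B cs h T X).relIndex (PJ cs h T X {0}) * (PJ cs h T X {0}).index = (RGD.B cs h T X).index :=
    Subgroup.relIndex_mul_index B_le_PJ
  have h3 : (RGD.B cs h T X).relIndex (PJ cs h T X {1}) * (PJ cs h T X {1}).index = (RGD.B cs h T X).index :=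
    Subgroup.relIndex_mul_index B_le_PJ
  rw [relIndex_B_PJ_singleton R] at h2 h3
  have hq0 : 1 ≤ Nat.card (X (sr 0)) := Nat.card_pos
  have hq1 : 1 ≤ Nat.card (X (sr 1)) := Nat.card_pos
  have hU1 : 1 ≤ Nat.card (RGD.Sup X (RGD.Pos cs h)) := Nat.card_pos
  have hqq : 1 ≤ Nat.card (X (sr 0)) * Nat.card (X (sr 1)) := Nat.mul_pos hq0 hq1
  have hcard : ({0, 1} : Finset (Fin 2)).card = 2 := by decide
  rw [hcard] at h1
  zify [hqq, hU1]
  zify at h2 h3
  push_cast at h1 h2 h3
  nlinarith [h1, h2, h3]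

/-! ### the number of regular unipotent elements -/

section reg

/-- `V_i` as a subgroup of `U` -/
def Vi (cs : CoxeterSystem M W) (h : IsCartan M A) (X : (I → ℤ) → Subgroup Y) (i : I) :
    Subgroup ↥(RGD.Sup X (RGD.Pos cs h)) := (RGD.Sup X (RGD.PosNe cs h i)).subgroupOf (RGD.Sup X (RGD.Pos cs h))

theorem Vi_normal (R : RGD cs h p T n X) (i : I) : (Vi cs h X i).Normal :=
  Subgroup.normal_subgroupOf_of_le_normalizer (le_trans RGD.U_le_B (B_le_normalizer_V R i))

theorem X_le_U (i : I) : X (sr i) ≤ RGD.Sup X (RGD.Pos cs h) :=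
  RGD.le_Sup (S := RGD.Pos cs h) ⟨isRoot_sr cs h i, sr_nonneg i⟩

theorem card_quot [Finite W] (R : RGD cs h p T n X) (i : I) : Nat.card (↥(RGD.Sup X (RGD.Pos cs h)) ⧸ Vi cs h X i) = Nat.card (X (sr i)) := by
  symm
  refine Nat.card_congr (Equiv.ofBijective
    (fun x : X (sr i) => (QuotientGroup.mk ⟨(x : Y), X_le_U i x.2⟩ : ↥(RGD.Sup X (RGD.Pos cs h)) ⧸ Vi cs h X i)) ⟨?_, ?_⟩)
  · intro x y hxy
    have h1 := QuotientGroup.eq.mp hxy
    unfold Vi at h1
    rw [Subgroup.mem_subgroupOf] at h1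
    have h2 := eq_one_of_mem_PosNe R (mul_mem (inv_mem x.2) y.2) h1
    exact Subtype.ext (inv_mul_eq_one.1 h2)
  · intro q
    induction q using QuotientGroup.induction_on with
    | _ g =>
      obtain ⟨g, hg⟩ := g
      have h1 : g ∈ ((X (sr i) ⊔ RGD.Sup X (RGD.PosNe cs h i) : Subgroup Y) : Set Y) := by
        rw [← R.Upos_eq i]; exact hg
      rw [Subgroup.coe_mul_of_left_le_normalizer_right _ _ (R.X_le_normalizer_V i), Set.mem_mul] at h1
      obtain ⟨a, ha, v, hv, rfl⟩ := h1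
      refine ⟨⟨a, ha⟩, ?_⟩
      rw [QuotientGroup.eq]
      unfold Vi
      rw [Subgroup.mem_subgroupOf]
      change a⁻¹ * (a * v) ∈ _
      rwa [inv_mul_cancel_left]

/-- the number of regular elements of `U` -/
theorem card_reg_mul [Finite W] [Finite Y] (R : RGD cs h p T n X) :
    Nat.card {u : ↥(RGD.Sup X (RGD.Pos cs h)) // ∀ i, u ∉ Vi cs h X i} * ∏ i, Nat.card (X (sr i)) =
      Nat.card ↥(RGD.Sup X (RGD.Pos cs h)) * ∏ i, (Nat.card (X (sr i)) - 1) := by
  classical
  have hn : ∀ i, (Vi cs h X i).Normal := Vi_normal R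
  have := Fintype.ofFinite ↥(RGD.Sup X (RGD.Pos cs h))
  have hft : ∀ i, Fintype (↥(RGD.Sup X (RGD.Pos cs h)) ⧸ Vi cs h X i) := fun i => Fintype.ofFinite _
  let F : ↥(RGD.Sup X (RGD.Pos cs h)) →* (∀ i, ↥(RGD.Sup X (RGD.Pos cs h)) ⧸ Vi cs h X i) :=
    MonoidHom.pi fun i => QuotientGroup.mk' (Vi cs h X i)
  have hFa : ∀ u i, F u i = QuotientGroup.mk u := fun u i => rfl
  have hF1 : ∀ u i, F u i = 1 ↔ u ∈ Vi cs h X i := fun u i => by
    rw [hFa, QuotientGroup.eq_one_iff]
  have hsurj : Function.Surjective F := by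
    intro c
    have key : ∀ s : Finset I, ∃ g, (∀ i ∈ s, F g i = c i) ∧ ∀ i, i ∉ s → F g i = 1 := by
      intro s
      induction s using Finset.induction_on with
      | empty => exact ⟨1, fun i hi => absurd hi (Finset.notMem_empty i), fun i _ => by rw [map_one]; rfl⟩
      | insert j s hj ih =>
        obtain ⟨g, h1, h2⟩ := ih
        obtain ⟨x, hx, hxc⟩ : ∃ x : ↥(RGD.Sup X (RGD.Pos cs h)), (x : Y) ∈ X (sr j) ∧ F x j = c j := by
          obtain ⟨y, hy⟩ := QuotientGroup.mk_surjective (c j)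
          have h3 : (y : Y) ∈ ((X (sr j) ⊔ RGD.Sup X (RGD.PosNe cs h j) : Subgroup Y) : Set Y) := by
            rw [← R.Upos_eq j]; exact y.2
          rw [Subgroup.coe_mul_of_left_le_normalizer_right _ _ (R.X_le_normalizer_V j), Set.mem_mul] at h3
          obtain ⟨a, ha, v, hv, e⟩ := h3
          refine ⟨⟨a, X_le_U j ha⟩, ha, ?_⟩
          rw [hFa, ← hy, QuotientGroup.eq]
          unfold Vi
          rw [Subgroup.mem_subgroupOf]
          change a⁻¹ * (y : Y) ∈ _
          rw [← e, inv_mul_cancel_left]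
          exact hv
        have hx1 : ∀ i, i ≠ j → F x i = 1 := by
          intro i hij
          rw [hF1]
          unfold Vi
          rw [Subgroup.mem_subgroupOf]
          refine RGD.le_Sup (S := RGD.PosNe cs h i) ⟨isRoot_sr cs h j, sr_nonneg j, ?_⟩ hx
          intro he
          have h3 := congrFun he j
          rw [sr_self, sr_ne hij.symm] at h3
          exact absurd h3 (by decide)
        refine ⟨g * x, fun i hi => ?_, fun i hi => ?_⟩
        · rw [map_mul, Pi.mul_apply]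
          rcases Finset.mem_insert.1 hi with rfl | hi'
          · rw [h2 _ hj, hxc, one_mul]
          · rw [h1 i hi', hx1 i (fun e => hj (e ▸ hi')), mul_one]
        · rw [Finset.mem_insert, not_or] at hi
          rw [map_mul, Pi.mul_apply, h2 i hi.2, hx1 i hi.1, mul_one]
    obtain ⟨g, hg, -⟩ := key Finset.univ
    exact ⟨g, funext fun i => hg i (Finset.mem_univ i)⟩
  -- the fibres
  obtain ⟨N, hN⟩ : ∃ N, N = (Finset.univ.filter fun u => F u = 1).card := ⟨_, rfl⟩
  have hfib : ∀ c, (Finset.univ.filter fun u => F u = c).card = N := fun c => by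
    rw [hN]
    exact MonoidHom.card_fiber_eq_of_mem_range F (hsurj c) (hsurj 1)
  have hcount : ∀ S : Finset (∀ i, ↥(RGD.Sup X (RGD.Pos cs h)) ⧸ Vi cs h X i),
      (Finset.univ.filter fun u => F u ∈ S).card = S.card * N := by
    intro S
    rw [Finset.card_eq_sum_card_fiberwise (f := F) (s := Finset.univ.filter fun u => F u ∈ S) (t := S)
        (fun u hu => (Finset.mem_filter.1 (Finset.mem_coe.1 hu)).2),
      Finset.sum_congr rfl (g := fun _ => N), Finset.sum_const, smul_eq_mul]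
    intro c hc
    rw [← hfib c, Finset.filter_filter]
    congr 1
    ext u
    simp only [Finset.mem_filter, Finset.mem_univ, true_and]
    exact ⟨fun h1 => h1.2, fun h1 => ⟨h1 ▸ hc, h1⟩⟩
  have hq : ∀ i, Fintype.card (↥(RGD.Sup X (RGD.Pos cs h)) ⧸ Vi cs h X i) = Nat.card (X (sr i)) := fun i => by
    rw [← Nat.card_eq_fintype_card, card_quot R i]
  -- the whole group
  have h1 := hcount Finset.univ
  have h2 : (Finset.univ.filter fun u => F u ∈ (Finset.univ : Finset (∀ i, ↥(RGD.Sup X (RGD.Pos cs h)) ⧸ Vi cs h X i))).card =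
      Nat.card ↥(RGD.Sup X (RGD.Pos cs h)) := by
    rw [Nat.card_eq_fintype_card, Finset.filter_true_of_mem fun u _ => Finset.mem_univ _, Finset.card_univ]
  rw [h2, Finset.card_univ, Fintype.card_pi, Finset.prod_congr rfl fun i _ => hq i] at h1
  -- the regular elements
  have h3 := hcount (Fintype.piFinset fun i => Finset.univ.erase 1)
  have h4 : (Finset.univ.filter fun u => F u ∈ Fintype.piFinset fun i => Finset.univ.erase
      (1 : ↥(RGD.Sup X (RGD.Pos cs h)) ⧸ Vi cs h X i)).card =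
      Nat.card {u : ↥(RGD.Sup X (RGD.Pos cs h)) // ∀ i, u ∉ Vi cs h X i} := by
    rw [Nat.card_eq_fintype_card, Fintype.card_subtype]
    congr 1
    ext u
    simp only [Finset.mem_filter, Finset.mem_univ, true_and, Fintype.mem_piFinset, Finset.mem_erase, and_true]
    exact forall_congr' fun i => not_congr (hF1 u i)
  rw [h4, Fintype.card_piFinset, Finset.prod_congr rfl fun i _ => (Finset.card_erase_of_mem (Finset.mem_univ _)).trans
    (by rw [Finset.card_univ, hq i])] at h3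
  rw [h3, h1]
  ring

theorem reg_iff {u : Y} (hu : u ∈ RGD.Sup X (RGD.Pos cs h)) :
    Reg cs h X u ↔ ∀ i, (⟨u, hu⟩ : ↥(RGD.Sup X (RGD.Pos cs h))) ∉ Vi cs h X i :=
  ⟨fun h1 i h2 => h1.2 i (Subgroup.mem_subgroupOf.1 h2), fun h1 => ⟨hu, fun i h2 => h1 i (Subgroup.mem_subgroupOf.2 h2)⟩⟩

theorem index_B_mul_le [Finite W] [Finite Y] [Fact p.Prime] (R : RGD cs h p T n X) (hG : GG cs h T X = ⊤) :
    (RGD.B cs h T X).index * ∏ i, (Nat.card (X (sr i)) - 1) ≤
      Nat.card (RGD.Sup X (RGD.Pos cs h)) * ∏ i, Nat.card (X (sr i)) := by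
  classical
  -- the conjugates of the regular elements
  let f : (Y ⧸ RGD.B cs h T X) × {u : ↥(RGD.Sup X (RGD.Pos cs h)) // ∀ i, u ∉ Vi cs h X i} →
      {g : Y // ∃ k : ℕ, orderOf g = p ^ k} := fun c => ⟨c.1.out * (c.2.1 : Y) * c.1.out⁻¹, by
    obtain ⟨k, hk⟩ := Reg.orderOf_eq R ((reg_iff c.2.1.2).2 c.2.2)
    refine ⟨k, ?_⟩
    have h1 : orderOf (MulAut.conj c.1.out (c.2.1 : Y)) = orderOf (c.2.1 : Y) :=
      MulEquiv.orderOf_eq (MulAut.conj c.1.out) _
    rw [← hk, ← h1]
    rfl⟩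
  have hinj : Function.Injective f := by
    rintro ⟨c, u⟩ ⟨c', u'⟩ hcu
    have h1 : c.out * (u.1 : Y) * c.out⁻¹ = c'.out * (u'.1 : Y) * c'.out⁻¹ := congrArg Subtype.val hcu
    have h2 : (c.out⁻¹ * c'.out)⁻¹ * (u.1 : Y) * (c.out⁻¹ * c'.out) = u'.1 := by
      calc (c.out⁻¹ * c'.out)⁻¹ * (u.1 : Y) * (c.out⁻¹ * c'.out) =
          c'.out⁻¹ * (c.out * (u.1 : Y) * c.out⁻¹) * c'.out := by group
        _ = c'.out⁻¹ * (c'.out * (u'.1 : Y) * c'.out⁻¹) * c'.out := by rw [h1]
        _ = u'.1 := by group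
    have h3 : c.out⁻¹ * c'.out ∈ RGD.B cs h T X := by
      refine Reg.mem_B R hG ((reg_iff u.1.2).2 u.2) ?_
      rw [h2]
      exact RGD.U_le_B u'.1.2
    have h4 : c = c' := by
      rw [← QuotientGroup.out_eq' c, ← QuotientGroup.out_eq' c']
      exact QuotientGroup.eq.2 h3
    subst h4
    have h5 : (u.1 : Y) = u'.1 := by
      rw [← h2]; group
    have h6 : u = u' := Subtype.ext (Subtype.ext h5)
    rw [h6]
  have h1 := Nat.card_le_card_of_injective f hinj
  rw [Nat.card_prod, Cfsg.Agent.H115.card_pel_of_rgd_top R hG] at h1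
  have h2 := card_reg_mul R
  have hidx : Nat.card (Y ⧸ RGD.B cs h T X) = (RGD.B cs h T X).index := rfl
  rw [hidx] at h1
  have hU : 0 < Nat.card ↥(RGD.Sup X (RGD.Pos cs h)) := Nat.card_pos
  have h3 : Nat.card ↥(RGD.Sup X (RGD.Pos cs h)) * ((RGD.B cs h T X).index * ∏ i, (Nat.card (X (sr i)) - 1)) ≤
      Nat.card ↥(RGD.Sup X (RGD.Pos cs h)) * (Nat.card ↥(RGD.Sup X (RGD.Pos cs h)) * ∏ i, Nat.card (X (sr i))) := by
    calc Nat.card ↥(RGD.Sup X (RGD.Pos cs h)) * ((RGD.B cs h T X).index * ∏ i, (Nat.card (X (sr i)) - 1)) =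
        (RGD.B cs h T X).index * (Nat.card ↥(RGD.Sup X (RGD.Pos cs h)) * ∏ i, (Nat.card (X (sr i)) - 1)) := by ring
      _ = (RGD.B cs h T X).index * Nat.card {u : ↥(RGD.Sup X (RGD.Pos cs h)) // ∀ i, u ∉ Vi cs h X i} *
          ∏ i, Nat.card (X (sr i)) := by rw [← h2]; ring
      _ ≤ Nat.card ↥(RGD.Sup X (RGD.Pos cs h)) ^ 2 * ∏ i, Nat.card (X (sr i)) := Nat.mul_le_mul_right _ h1
      _ = _ := by ring
  exact Nat.le_of_mul_le_mul_left h3 hU

end reg

end Cfsg.Agent.H497.CD
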